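import Groth.Agent.AnFibLib.BaseChange
import Groth.Agent.SubgrpLocus.Basic
import Groth.Agent.AVAmple.Basic
import Groth.Agent.Castel.InterNeg
import Groth.Agent.CurveRR.Easy
import Groth.Agent.CurveRR.Ample
import Groth.Agent.HQProj.Basic
import Groth.Agent.S1184
import Groth.Agent.S8914
import Groth.Agent.S9694
import Groth.Agent.S9777
import Groth.Agent.S12128
import Groth.Prelude.Def_AnFib

/-!
An elementary fibration is affine and surjective.
-/

set_option autoImplicit false
set_option linter.style.haveILetI false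
set_option backward.isDefEq.respectTransparency false

universe u

open CategoryTheory CategoryTheory.Limits AlgebraicGeometry TopologicalSpace

namespace Groth.Agent.AnFibLib

/-- Fibres of a family with irreducible geometric fibres of dimension one. -/
theorem fibre_dim_one {X S : Scheme.{u}} (f : X ⟶ S) [QuasiCompact f] [LocallyOfFiniteType f]
    (h : ∀ (Ω : Type u) [Field Ω] [IsAlgClosed Ω] (σ : Spec (CommRingCat.of Ω) ⟶ S),
      IrreducibleSpace ↥(pullback f σ) ∧ topologicalKrullDim ↥(pullback f σ) = 1) (s : S) :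
    IrreducibleSpace ↥(f.fiber s) ∧ topologicalKrullDim ↥(f.fiber s) = 1 := by
  let Ω := AlgebraicClosure (S.residueField s)
  let σ : Spec (CommRingCat.of Ω) ⟶ S :=
    Spec.map (CommRingCat.ofHom (algebraMap (S.residueField s) Ω)) ≫ S.fromSpecResidueField s
  let pt : Spec (CommRingCat.of Ω) := IsLocalRing.closedPoint Ω
  have hσ : σ pt = s :=
    Set.mem_singleton_iff.1 ((Scheme.range_fromSpecResidueField s).le ⟨_, rfl⟩)
  obtain ⟨hirr, hdim⟩ := h Ω σ
  haveI : Subsingleton (Spec (CommRingCat.of Ω)) := inferInstanceAs (Subsingleton (PrimeSpectrum Ω))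
  refine ⟨?_, ?_⟩
  · obtain ⟨y⟩ := hirr.toNonempty
    have hy : f (pullback.fst f σ y) = s := by
      rw [← Scheme.Hom.comp_apply, pullback.condition, Scheme.Hom.comp_apply,
        Subsingleton.elim (pullback.snd f σ y) pt, hσ]
    have hp := isPreirreducible_fibre f (fun Ω' _ _ σ' => (h Ω' σ').1) s
    haveI : IrreducibleSpace ↥(f ⁻¹' {s}) :=
      haveI : Nonempty ↥(f ⁻¹' {s}) := ⟨⟨_, hy⟩⟩
      haveI : PreirreducibleSpace ↥(f ⁻¹' {s}) := Subtype.preirreducibleSpace hp
      ⟨inferInstance⟩
    haveI : Nonempty ↥(f.fiber s) := ⟨(f.fiberHomeo s).symm ⟨_, hy⟩⟩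
    haveI : PreirreducibleSpace ↥(f.fiber s) :=
      (f.fiberHomeo s).symm.surjective.preirreducibleSpace (f.fiberHomeo s).symm.continuous
    exact ⟨inferInstance⟩
  · have hu : (pullback.snd f σ) ⁻¹' {pt} = Set.univ := Set.eq_univ_of_forall fun y => Subsingleton.elim _ pt
    have h9 := Groth.Agent.S9777.result f σ (pullback.snd f σ) (pullback.fst f σ)
      (IsPullback.of_hasPullback f σ) pt
    rw [hσ] at h9
    rw [← h9, ← hdim]
    exact IsHomeomorph.topologicalKrullDim_eq _
      ((((pullback.snd f σ).fiberHomeo pt).trans (Homeomorph.setCongr hu)).trans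
        (Homeomorph.Set.univ _)).isHomeomorph

/-- An elementary fibration is affine and surjective. -/
theorem isAffineHom_and_surjective {X S : Scheme.{u}} (f : X ⟶ S) (hf : An.IsElementaryFibration f) :
    IsAffineHom f ∧ Surjective f := by
  obtain ⟨Xb, Y, j, fb, i, rfl, hjo, hic, hr, hdense, hsm, ⟨N, c, hc, hcf⟩, hgeom, hfin, het, hsurj⟩ := hf
  haveI := hjo
  haveI := hic
  haveI := hc
  haveI := hfin
  haveI := het
  haveI : IsProper (CohB1.ProjSpaceOver.toBase N S) := HQProj.isProper_toBase N S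
  haveI : IsProper fb := hcf ▸ inferInstance
  haveI := hsm
  have hfib := fibre_dim_one fb hgeom
  refine ⟨?_, ⟨fun s => ?_⟩⟩
  swap
  · haveI := (hfib s).1
    obtain ⟨z⟩ : Nonempty ↥(fb.fiber s) := (hfib s).1.toNonempty
    obtain ⟨x, ⟨w, rfl⟩, hw⟩ := closure_nonempty_iff.1
      ⟨fb.fiberι s z, hdense s (by rw [← fb.range_fiberι s]; exact ⟨z, rfl⟩)⟩
    exact ⟨w, hw⟩
  haveI : SmoothOfRelativeDimension 1 fb := SubgrpLocus.smoothOfRelativeDimension_of_fibreDimAt fb 1 fun x =>
    FittLib.fibreDimAt_eq_of_components fb x fun T hT => by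
      haveI := (hfib (fb x)).1
      rw [irreducibleComponents_eq_singleton, Set.mem_singleton_iff] at hT
      subst hT
      rw [IsHomeomorph.topologicalKrullDim_eq _ (Homeomorph.Set.univ _).isHomeomorph]
      exact_mod_cast (hfib (fb x)).2
  -- the divisor
  let I : Xb.IdealSheafData := i.ker
  have hIι : I.subschemeι ≫ fb = inv i.toImage ≫ i ≫ fb := by
    rw [IsIso.eq_inv_comp]
    exact i.toImage_imageι_assoc fb
  have hI : BlowUp.IsEffCartierIdeal I := by
    refine ((Groth.Agent.S1184.result fb I).1.2 ⟨?_, ?_, ?_⟩).1 <;> rw [hIι] <;> infer_instance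
  have hsupp : (I.support : Set Xb) = Set.range i := by
    rw [Scheme.Hom.support_ker, i.isClosedEmbedding.isClosed_range.closure_eq]
  have hU : (I.support : Set Xb) = (j.opensRange : Set Xb)ᶜ := by
    rw [hsupp, Scheme.Hom.coe_opensRange, hr, compl_compl]
  obtain ⟨L, hL, hLI⟩ := Castel.exists_inverse_module ((Groth.Agent.S8914.result I).2 hI)
  obtain ⟨t, ht⟩ := AVAmple.exists_section hL I hLI j.opensRange hU
  -- ampleness on the fibres
  have hamp : RelAmple.IsRelAmple fb L := by
    refine (Groth.Agent.S12128.result fb L hL).2 fun s => ?_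
    letI : (fb.fiber s).Over (Spec (CommRingCat.of (S.residueField s))) := ⟨fb.fiberToSpecResidueField s⟩
    haveI : IsProper ((fb.fiber s) ↘ Spec (CommRingCat.of (S.residueField s))) :=
      MorphismProperty.pullback_snd (P := @IsProper) _ _ inferInstance
    haveI : Smooth ((fb.fiber s) ↘ Spec (CommRingCat.of (S.residueField s))) :=
      MorphismProperty.pullback_snd (P := @Smooth) _ _ inferInstance
    haveI : IsReduced (fb.fiber s) :=
      SmoothRed.isReduced_of_smooth_scheme ((fb.fiber s) ↘ Spec (CommRingCat.of (S.residueField s)))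
    haveI := (hfib s).1
    haveI : IsIntegral (fb.fiber s) := isIntegral_of_irreducibleSpace_of_isReduced _
    refine CurveRR.isAmple_of_deg_pos (k := S.residueField s) (hfib s).2
      (PicLoc.isInvertible_pullback _ hL) ?_
    let t' := (PicLoc.pullbackStructureIso (fb.fiberι s)).symm.hom ≫
      (Scheme.Modules.pullback (fb.fiberι s)).map t
    have ht' : CohB1.genLocus _ t' = fb.fiberι s ⁻¹ᵁ j.opensRange := by
      rw [← ht]
      exact TMul.genLocus_pullback (fb.fiberι s) hL t _
    obtain ⟨y, hy⟩ := hsurj s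
    obtain ⟨z, hz⟩ : (i y) ∈ Set.range (fb.fiberι s) := by
      rw [fb.range_fiberι s]; exact hy
    refine CurveRR.Easy.deg_pos_of_vanishing (hfib s).2.le (PicLoc.isInvertible_pullback _ hL) t' ?_
      (x := z) ?_
    · intro h0
      obtain ⟨x, ⟨w, rfl⟩, hw⟩ := closure_nonempty_iff.1
        ⟨fb.fiberι s z, hdense s (by rw [← fb.range_fiberι s]; exact ⟨z, rfl⟩)⟩
      obtain ⟨v, hv⟩ : j w ∈ Set.range (fb.fiberι s) := by rw [fb.range_fiberι s]; exact hw
      have hmem : v ∈ CohB1.genLocus _ t' := by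
        rw [ht']
        show fb.fiberι s v ∈ j.opensRange
        rw [hv]; exact ⟨w, rfl⟩
      rw [h0, TMul.genLocus_zero] at hmem
      exact hmem
    · rw [ht']
      intro hmem
      have hmem' : fb.fiberι s z ∈ (j.opensRange : Set Xb) := hmem
      rw [Scheme.Hom.coe_opensRange, hr, hz] at hmem'
      exact hmem' ⟨y, rfl⟩
  have haff := Groth.Agent.S9694.result fb L hamp t
  rw [ht] at haff
  haveI := haff
  have e : j ≫ fb = (IsOpenImmersion.isoOfRangeEq j j.opensRange.ι (by simp)).hom ≫ j.opensRange.ι ≫ fb := by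
    rw [IsOpenImmersion.isoOfRangeEq_hom_fac_assoc]
  rw [e]
  infer_instance

end Groth.Agent.AnFibLib
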