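import Groth.Prelude.Def_AnFib
import Mathlib.AlgebraicGeometry.PullbackCarrier
import Mathlib.AlgebraicGeometry.Morphisms.Smooth
import Mathlib.AlgebraicGeometry.Morphisms.Etale
import Mathlib.AlgebraicGeometry.Morphisms.Finite

/-!
Base change of elementary fibrations.
-/

set_option autoImplicit false
set_option backward.isDefEq.respectTransparency false

universe u

open CategoryTheory Limits AlgebraicGeometry TopologicalSpace

namespace Groth.Agent.AnFibLib

noncomputable section

lemma exists_preimage {P X Y Z : Scheme.{u}} {fst : P ⟶ X} {snd : P ⟶ Y} {f : X ⟶ Z}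
    {g : Y ⟶ Z} (h : IsPullback fst snd f g) (x : X) (y : Y) (e : f x = g y) :
    ∃ z : P, fst z = x ∧ snd z = y := by
  obtain ⟨w, hw₁, hw₂⟩ := Scheme.Pullback.exists_preimage_pullback x y e
  refine ⟨h.isoPullback.inv w, ?_, ?_⟩
  · rw [← Scheme.Hom.comp_apply, h.isoPullback_inv_fst, hw₁]
  · rw [← Scheme.Hom.comp_apply, h.isoPullback_inv_snd, hw₂]

/-- The range of a base change is the preimage of the range. -/
lemma range_snd_eq {P X Y Z : Scheme.{u}} {fst : P ⟶ X} {snd : P ⟶ Y} {f : X ⟶ Z}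
    {g : Y ⟶ Z} (h : IsPullback fst snd f g) : Set.range snd = g ⁻¹' Set.range f := by
  ext y
  constructor
  · rintro ⟨p, rfl⟩
    exact ⟨fst p, by rw [← Scheme.Hom.comp_apply, h.w, Scheme.Hom.comp_apply]⟩
  · rintro ⟨x, hx⟩
    obtain ⟨z, -, hz⟩ := exists_preimage h x y hx
    exact ⟨z, hz⟩

/-- In a space over `S` with irreducible geometric fibres, each fibre is irreducible. -/
lemma isPreirreducible_fibre {X S : Scheme.{u}} (f : X ⟶ S)
    (h : ∀ (Ω : Type u) [Field Ω] [IsAlgClosed Ω] (σ : Spec (CommRingCat.of Ω) ⟶ S),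
      IrreducibleSpace ↥(pullback f σ)) (s : S) : IsPreirreducible (f ⁻¹' {s}) := by
  let Ω := AlgebraicClosure (S.residueField s)
  let σ : Spec (CommRingCat.of Ω) ⟶ S :=
    Spec.map (CommRingCat.ofHom (algebraMap (S.residueField s) Ω)) ≫ S.fromSpecResidueField s
  have := h Ω σ
  have hσ : Set.range σ = {s} := by
    refine Set.Subset.antisymm ?_ ?_
    · rintro _ ⟨p, rfl⟩
      rw [← Scheme.range_fromSpecResidueField, Scheme.Hom.comp_apply]
      exact ⟨_, rfl⟩
    · intro t ht
      obtain rfl : t = s := ht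
      refine ⟨IsLocalRing.closedPoint Ω, ?_⟩
      rw [Scheme.Hom.comp_apply]
      exact Set.mem_singleton_iff.mp ((Scheme.range_fromSpecResidueField t).le ⟨_, rfl⟩)
  rw [← hσ, ← Scheme.Pullback.range_fst, ← Set.image_univ]
  exact PreirreducibleSpace.isPreirreducible_univ.image _ (pullback.fst f σ).continuous.continuousOn

theorem isElementaryFibration_snd {X S S' : Scheme.{u}} (f : X ⟶ S) (v : S' ⟶ S)
    (hf : An.IsElementaryFibration f) : An.IsElementaryFibration (pullback.snd f v) := by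
  obtain ⟨Xb, Y, j, fb, i, hj, hjo, hic, hr, hdense, hsm, hproj, hgeom, hfin, het, hsurj⟩ := hf
  let Xb' := pullback fb v
  let p : Xb' ⟶ Xb := pullback.fst fb v
  let fb' : Xb' ⟶ S' := pullback.snd fb v
  let Y' := pullback i p
  let i' : Y' ⟶ Xb' := pullback.snd i p
  let j' : pullback f v ⟶ Xb' :=
    pullback.lift (pullback.fst f v ≫ j) (pullback.snd f v) (by rw [Category.assoc, hj, pullback.condition])
  have hj'sq : IsPullback (pullback.fst f v) j' j p :=
    IsPullback.of_bot (by rw [pullback.lift_snd, hj]; exact IsPullback.of_hasPullback f v)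
      (pullback.lift_fst _ _ _).symm (IsPullback.of_hasPullback fb v)
  have hY'sq : IsPullback (pullback.fst i p) (i' ≫ fb') (i ≫ fb) v :=
    (IsPullback.of_hasPullback i p).paste_vert (IsPullback.of_hasPullback fb v)
  have hgeom' : ∀ (Ω : Type u) [Field Ω] [IsAlgClosed Ω] (σ : Spec (CommRingCat.of Ω) ⟶ S'),
      IrreducibleSpace ↥(pullback fb' σ) ∧ topologicalKrullDim ↥(pullback fb' σ) = 1 := by
    intro Ω _ _ σ
    obtain ⟨h1, h2⟩ := hgeom Ω (σ ≫ v)
    let e := Scheme.homeoOfIso (pullbackLeftPullbackSndIso fb v σ)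
    refine ⟨?_, ?_⟩
    · exact (e.irreducibleSpace_iff).mpr h1
    · exact (IsHomeomorph.topologicalKrullDim_eq _ e.isHomeomorph).trans h2
  refine ⟨Xb', Y', j', fb', i', pullback.lift_snd _ _ _,
    MorphismProperty.of_isPullback hj'sq hjo,
    MorphismProperty.of_isPullback (IsPullback.of_hasPullback i p) hic, ?_, ?_,
    MorphismProperty.of_isPullback (IsPullback.of_hasPullback fb v) hsm, ?_, hgeom',
    MorphismProperty.of_isPullback hY'sq hfin,
    MorphismProperty.of_isPullback hY'sq het, ?_⟩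
  · change Set.range j' = (Set.range i')ᶜ
    rw [range_snd_eq hj'sq, range_snd_eq (IsPullback.of_hasPullback i p)]
    change p ⁻¹' Set.range j.base = _
    rw [hr]; rfl
  · intro s' z hz
    let Z := Set.range j'
    have hopen : IsOpen Z := by
      have : IsOpenImmersion j' := MorphismProperty.of_isPullback hj'sq hjo
      exact j'.isOpenEmbedding.isOpen_range
    obtain ⟨w, hw⟩ : (Z ∩ fb' ⁻¹' {s'}).Nonempty := by
      have hne : (fb ⁻¹' {v s'}).Nonempty := by
        refine ⟨p z, ?_⟩
        change fb (p z) = v s'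
        rw [← Scheme.Hom.comp_apply, pullback.condition, Scheme.Hom.comp_apply]
        exact congrArg v hz
      obtain ⟨x₀, hx₀⟩ := hne
      obtain ⟨x, hx₁, hx₂⟩ := (closure_nonempty_iff.mp ⟨x₀, hdense (v s') hx₀⟩ :
        (Set.range j.base ∩ fb ⁻¹' {v s'}).Nonempty)
      obtain ⟨w, hw₁, hw₂⟩ := Scheme.Pullback.exists_preimage_pullback x s' hx₂
      refine ⟨w, ?_, hw₂⟩
      change w ∈ Set.range j'
      rw [range_snd_eq hj'sq]
      change p w ∈ Set.range j
      rw [hw₁]; exact hx₁
    have hirr := isPreirreducible_fibre fb' (fun Ω _ _ σ => (hgeom' Ω σ).1) s'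
    rw [mem_closure_iff]
    intro O hO hzO
    obtain ⟨q, hq₁, hq₂, hq₃⟩ := hirr O Z hO hopen ⟨z, hz, hzO⟩ ⟨w, hw.2, hw.1⟩
    exact ⟨q, hq₂, hq₃, hq₁⟩
  · obtain ⟨n, c, hc, hcb⟩ := hproj
    let T := specULiftZIsTerminal.{u}
    let gS := T.from S
    let gS' := T.from S'
    have h1 : (p ≫ c) ≫ pullback.snd _ gS = fb' ≫ v := by
      rw [Category.assoc]
      change p ≫ c ≫ CohB1.ProjSpaceOver.toBase n S = _
      rw [hcb, pullback.condition]
    let q : CohB1.ProjSpaceOver n S' ⟶ CohB1.ProjSpaceOver n S :=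
      pullback.lift (pullback.fst _ _) (pullback.snd _ _ ≫ v) (T.hom_ext _ _)
    have hqsq : IsPullback q (CohB1.ProjSpaceOver.toBase n S') (CohB1.ProjSpaceOver.toBase n S) v := by
      refine IsPullback.of_right ?_ (pullback.lift_snd _ _ _) (IsPullback.of_hasPullback _ gS)
      rw [pullback.lift_fst, show v ≫ gS = gS' from T.hom_ext _ _]
      exact IsPullback.of_hasPullback _ gS'
    let c' : Xb' ⟶ CohB1.ProjSpaceOver n S' := hqsq.lift (p ≫ c) fb' h1
    have hc'sq : IsPullback p c' c q := by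
      refine IsPullback.of_bot ?_ (hqsq.lift_fst _ _ _).symm hqsq
      rw [hqsq.lift_snd, hcb]
      exact IsPullback.of_hasPullback fb v
    exact ⟨n, c', MorphismProperty.of_isPullback hc'sq hc, hqsq.lift_snd _ _ _⟩
  · intro s'
    obtain ⟨y, hy⟩ := hsurj (v s')
    obtain ⟨z, -, hz⟩ := exists_preimage hY'sq y s' hy
    exact ⟨z, hz⟩

end

end Groth.Agent.AnFibLib
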